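import Cfsg.Agent.Helper5.BrPG.W1

/-!
# Theorem PG (S0996, helper77), package W2: PG2a, PG2b, PG2c, PG6c.
-/

set_option autoImplicit false
set_option linter.unusedSectionVars false

namespace Cfsg.Agent.Helper5.BrPG

open Cfsg.Agent.Helper77.BrPG
open scoped Pointwise

universe u

variable {G : Type u} [Group G] [Finite G] {p : ℕ} [Fact p.Prime]

/-- a nontrivial element of a Sylow subgroup of order `p` generates it -/
theorem zpowers_eq_of_card (P : Sylow p G) (hP : Nat.card P = p) (x : G)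
    (hx : x ∈ (P : Subgroup G)) (hx1 : x ≠ 1) : Subgroup.zpowers x = (P : Subgroup G) := by
  have hle : Subgroup.zpowers x ≤ (P : Subgroup G) := by
    rw [Subgroup.zpowers_le]; exact hx
  apply Subgroup.eq_of_le_of_card_ge hle
  have hdvd : Nat.card (Subgroup.zpowers x) ∣ Nat.card (P : Subgroup G) :=
    Subgroup.card_dvd_of_le hle
  rw [hP] at hdvd
  have hp : p.Prime := Fact.out
  rcases (Nat.dvd_prime hp).1 hdvd with h1 | h1
  · exfalso
    rw [Nat.card_zpowers, orderOf_eq_one_iff] at h1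
    exact hx1 h1
  · rw [h1]; exact hP.le

/-- (PG2a) `C_G(x) = P` for `x ∈ P \ 1` -/
theorem centralizer_singleton_eq (P : Sylow p G) (hP : Nat.card P = p)
    (hcen : Subgroup.centralizer ((P : Subgroup G) : Set G) = (P : Subgroup G)) (x : G)
    (hx : x ∈ (P : Subgroup G)) (hx1 : x ≠ 1) :
    Subgroup.centralizer ({x} : Set G) = (P : Subgroup G) := by
  have hz := zpowers_eq_of_card P hP x hx hx1
  rw [← hcen]
  ext w
  rw [Subgroup.mem_centralizer_iff, Subgroup.mem_centralizer_iff]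
  constructor
  · intro h y hy
    have hy' : y ∈ Subgroup.zpowers x := by rw [hz]; exact hy
    obtain ⟨k, rfl⟩ := Subgroup.mem_zpowers_iff.1 hy'
    have hc : Commute x w := h x rfl
    exact (hc.zpow_left k).eq
  · intro h y hy
    rw [Set.mem_singleton_iff] at hy
    subst hy
    exact h y hx

/-- (PG2b) `P` fixes only the point `P`: `x ∈ P \ 1` normalizes no other Sylow subgroup -/
theorem eq_of_mem_Nz (P : Sylow p G) (hP : Nat.card P = p) (x : G)
    (hx : x ∈ (P : Subgroup G)) (hx1 : x ≠ 1) (Q : Sylow p G) (hxQ : x ∈ Nz Q) : Q = P := by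
  have hz := zpowers_eq_of_card P hP x hx hx1
  have hpg : IsPGroup p (Subgroup.zpowers x) := by
    rw [hz]; exact P.isPGroup'
  have h1 := hpg.inf_normalizer_sylow Q
  have hxQ' : x ∈ (Q : Subgroup G) := by
    have h2 : x ∈ Subgroup.zpowers x ⊓ Subgroup.normalizer ((Q : Subgroup G) : Set G) :=
      ⟨Subgroup.mem_zpowers x, hxQ⟩
    have h3 : x ∈ Subgroup.zpowers x ⊓ (Q : Subgroup G) := h1 ▸ h2
    exact h3.2
  have hle : (P : Subgroup G) ≤ (Q : Subgroup G) := by
    rw [← hz, Subgroup.zpowers_le]; exact hxQ'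
  exact Sylow.ext (P.is_maximal' Q.isPGroup' hle)

/-- (PG2c) `N_G(P) ∩ N_G(Q) ∩ P = 1` for `Q ≠ P` -/
theorem Ez_inf_eq_bot (P : Sylow p G) (hP : Nat.card P = p) (Q : Sylow p G) (hQ : Q ≠ P) :
    Ez P Q ⊓ (P : Subgroup G) = ⊥ := by
  rw [eq_bot_iff]
  intro x hx
  rw [Subgroup.mem_bot]
  by_contra hx1
  exact hQ (eq_of_mem_Nz P hP x hx.2 hx1 Q hx.1.2)

/-- (PG6c) the action on `Syl_p G` is faithful -/
theorem IsBr.eq_one_of_forall_mem {P : Sylow p G} {e n : ℕ} (h : IsBr P e n) (g : G)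
    (hg : ∀ Q : Sylow p G, g ∈ Nz Q) : g = 1 := by
  -- there is `Q ≠ P`
  have hex : ∃ Q : Sylow p G, Q ≠ P := by
    by_contra hne
    push Not at hne
    have hsub : Subsingleton (Sylow p G) := ⟨fun a b => (hne a).trans (hne b).symm⟩
    have hc : Nat.card (Sylow p G) ≤ 1 := Finite.card_le_one_iff_subsingleton.2 hsub
    rw [h.cardS] at hc
    have hp : p.Prime := Fact.out
    have : 1 ≤ n * p := Nat.mul_pos h.hn hp.pos
    omega
  obtain ⟨Q, hQ⟩ := hex
  have hbot := Ez_inf_eq_bot P h.cardP Q hQ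
  -- `g` commutes with every `x ∈ P`
  have hcomm : ∀ x ∈ (P : Subgroup G), x * g = g * x := by
    intro x hx
    have hc : g * x * g⁻¹ * x⁻¹ ∈ Ez P Q ⊓ (P : Subgroup G) := by
      have hK : ∀ Q' : Sylow p G, g * x * g⁻¹ * x⁻¹ ∈ Nz Q' := by
        intro Q'
        have h1 : x * g⁻¹ * x⁻¹ ∈ Nz Q' := by
          have h2 : g⁻¹ ∈ Nz (x⁻¹ • Q') := (Nz (x⁻¹ • Q')).inv_mem (hg _)
          have h3 := (mem_Nz_smul_iff x (x * g⁻¹ * x⁻¹) (x⁻¹ • Q')).2 (by
            have : x⁻¹ * (x * g⁻¹ * x⁻¹) * x = g⁻¹ := by group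
            rw [this]; exact h2)
          rwa [smul_inv_smul] at h3
        have : g * x * g⁻¹ * x⁻¹ = g * (x * g⁻¹ * x⁻¹) := by group
        rw [this]
        exact (Nz Q').mul_mem (hg Q') h1
      refine ⟨⟨hK P, hK Q⟩, ?_⟩
      have h1 : g * x * g⁻¹ ∈ (P : Subgroup G) :=
        (Subgroup.mem_normalizer_iff.1 (hg P) x).1 hx
      exact (P : Subgroup G).mul_mem h1 ((P : Subgroup G).inv_mem hx)
    rw [hbot, Subgroup.mem_bot] at hc
    have : g * x = x * g := by
      have := congrArg (fun t => t * x * g) hc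
      simpa [mul_assoc] using this
    exact this.symm
  have hgP : g ∈ (P : Subgroup G) := by
    rw [← h.cen, Subgroup.mem_centralizer_iff]
    exact hcomm
  have : g ∈ Ez P Q ⊓ (P : Subgroup G) := ⟨⟨hg P, hg Q⟩, hgP⟩
  rw [hbot, Subgroup.mem_bot] at this
  exact this

end Cfsg.Agent.Helper5.BrPG
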