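import Cfsg.Agent.Helper77.Br43.PGDefs

/-!
# Theorem PG (S0996, helper77), package W1: transfer to any Sylow subgroup.
-/

set_option autoImplicit false
set_option linter.unusedSectionVars false

namespace Cfsg.Agent.Helper5.BrPG

open Cfsg.Agent.Helper77.BrPG
open scoped Pointwise

universe u

variable {G : Type u} [Group G] [Finite G] {p : ℕ} [Fact p.Prime]

theorem mem_Nz_iff (w : G) (Q : Sylow p G) : w ∈ Nz Q ↔ w • Q = Q :=
  Sylow.smul_eq_iff_mem_normalizer.symm

theorem mem_Nz_smul_iff (g w : G) (Q : Sylow p G) : w ∈ Nz (g • Q) ↔ g⁻¹ * w * g ∈ Nz Q := by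
  rw [mem_Nz_iff, mem_Nz_iff, mul_smul, mul_smul, inv_smul_eq_iff]

/-- (PG1a) `N_G(g • Q) = g N_G(Q) g⁻¹` -/
theorem Nz_smul (g : G) (Q : Sylow p G) : Nz (g • Q) = MulAut.conj g • Nz Q := by
  ext w
  rw [mem_Nz_smul_iff, Subgroup.mem_pointwise_smul_iff_inv_smul_mem]
  simp [MulAut.smul_def]

omit [Finite G] in
theorem card_conj_smul (g : G) (H : Subgroup G) : Nat.card (MulAut.conj g • H : Subgroup G) = Nat.card H :=
  (Nat.card_congr (Subgroup.equivSMul (MulAut.conj g) H).toEquiv).symm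

omit [Finite G] in
theorem centralizer_conj_smul (g : G) (H : Subgroup G) :
    Subgroup.centralizer ((MulAut.conj g • H : Subgroup G) : Set G) =
      MulAut.conj g • Subgroup.centralizer (H : Set G) := by
  ext w
  rw [Subgroup.mem_pointwise_smul_iff_inv_smul_mem, Subgroup.mem_centralizer_iff,
    Subgroup.mem_centralizer_iff]
  constructor
  · intro h x hx
    have := h (g * x * g⁻¹) (by
      rw [SetLike.mem_coe, Subgroup.mem_pointwise_smul_iff_inv_smul_mem]
      simpa [MulAut.smul_def, mul_assoc] using hx)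
    simp only [MulAut.smul_def, MulAut.conj_inv_apply]
    calc x * (g⁻¹ * w * g) = g⁻¹ * ((g * x * g⁻¹) * w) * g := by group
      _ = g⁻¹ * (w * (g * x * g⁻¹)) * g := by rw [this]
      _ = g⁻¹ * w * g * x := by group
  · intro h x hx
    rw [SetLike.mem_coe, Subgroup.mem_pointwise_smul_iff_inv_smul_mem] at hx
    simp only [MulAut.smul_def, MulAut.conj_inv_apply] at hx h
    have := h _ hx
    calc x * w = g * ((g⁻¹ * x * g) * (g⁻¹ * w * g)) * g⁻¹ := by group
      _ = g * ((g⁻¹ * w * g) * (g⁻¹ * x * g)) * g⁻¹ := by rw [this]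
      _ = w * x := by group

/-- (PG1b) the hypotheses hold for every Sylow `p`-subgroup -/
theorem IsBr.conj {P : Sylow p G} {e n : ℕ} (h : IsBr P e n) (Q : Sylow p G) : IsBr Q e n := by
  obtain ⟨g, rfl⟩ := MulAction.exists_smul_eq G P Q
  refine ⟨h.odd, ?_, ?_, ?_, h.he, h.cardS, h.hn, ?_⟩
  · have : ((g • P : Sylow p G) : Subgroup G) = MulAut.conj g • (P : Subgroup G) :=
      Sylow.pointwise_smul_def
    show Nat.card ((g • P : Sylow p G) : Subgroup G) = p
    rw [this, card_conj_smul]; exact h.cardP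
  · have : ((g • P : Sylow p G) : Subgroup G) = MulAut.conj g • (P : Subgroup G) :=
      Sylow.pointwise_smul_def
    rw [this, centralizer_conj_smul, h.cen]
  · rw [Nz_smul, card_conj_smul]; exact h.cardN
  · intro Q' hQ'
    have hQ'' : g⁻¹ • Q' ≠ P := by
      intro hh; apply hQ'; rw [← hh, smul_inv_smul]
    have h2 := h.two _ hQ''
    have : Ez (g • P) Q' = MulAut.conj g • Ez P (g⁻¹ • Q') := by
      show Nz (g • P) ⊓ Nz Q' = MulAut.conj g • (Nz P ⊓ Nz (g⁻¹ • Q'))
      rw [Subgroup.smul_inf, ← Nz_smul, ← Nz_smul, smul_inv_smul]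
    rw [this, card_conj_smul]; exact h2

end Cfsg.Agent.Helper5.BrPG
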